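import Cfsg.Agent.Lib.Invol.GW.Induction.Local
import Cfsg.Agent.Lib.Invol.GW.Klein.Setup
import Cfsg.Agent.Lib.Invol.GW.Dihedral.Setup
import Cfsg.Agent.Lib.Invol.GW.Consumers.Basic
import Cfsg.Agent.Lib.Grp.DihedralClasses
import Cfsg.Agent.Lib.Fus.FundPair.Fusion

/-!
# Gorenstein–Walter: the induction

The two configurations `Klein.Hyp` and `Dihedral.Hyp` are all that is left of the classification of the groups with
dihedral Sylow 2-subgroups: the known local subgroups follow by induction on the order.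
-/

set_option autoImplicit false
set_option linter.unusedSectionVars false
set_option linter.style.haveILetI false

namespace Cfsg.Agent.Invol.GW.Induction

open Subgroup
open scoped commutatorElement

universe u

/-- The Klein four case. -/
def KleinDone : Prop :=
  ∀ {G : Type u} [Group G] [Finite G] (V : Sylow 2 G) (t u : G), Klein.Hyp V t u → IsPSLTwoOrSeven G

/-- The case of a dihedral Sylow subgroup of order at least eight. -/
def DihedralDone : Prop :=
  ∀ {G : Type u} [Group G] [Finite G] (S : Sylow 2 G) (σ τ : G) (n : ℕ),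
    Dihedral.Hyp S σ τ n → IsPSLTwoOrSeven G

variable {G : Type u} [Group G] [Finite G]

/-- A subgroup of the quotient by the core with its isomorphism, pulled back. -/
theorem exists_preimage {L : Subgroup G} [(Cfsg.oddCore ↥L).Normal] {N : Subgroup (↥L ⧸ Cfsg.oddCore ↥L)}
    [N.Normal] {K : Type*} [Group K] (e : N ≃* K) :
    (N.comap (QuotientGroup.mk' (Cfsg.oddCore ↥L))).Normal ∧
      Cfsg.oddCore ↥L ≤ N.comap (QuotientGroup.mk' (Cfsg.oddCore ↥L)) ∧
      ∃ π : ↥(N.comap (QuotientGroup.mk' (Cfsg.oddCore ↥L))) →* K, Function.Surjective π ∧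
        π.ker = (Cfsg.oddCore ↥L).subgroupOf (N.comap (QuotientGroup.mk' (Cfsg.oddCore ↥L))) := by
  set q := QuotientGroup.mk' (Cfsg.oddCore ↥L) with hq
  refine ⟨inferInstance, fun x hx => ?_, e.toMonoidHom.comp (q.subgroupComap N), ?_, ?_⟩
  · show q x ∈ N
    rw [show q x = 1 from (QuotientGroup.eq_one_iff x).2 hx]
    exact one_mem _
  · exact e.surjective.comp (MonoidHom.subgroupComap_surjective_of_surjective q N (QuotientGroup.mk'_surjective _))
  · ext x
    rw [MonoidHom.mem_ker, MonoidHom.comp_apply, mem_subgroupOf, MulEquiv.coe_toMonoidHom, map_eq_one_iff e e.injective]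
    exact Subtype.ext_iff.trans (QuotientGroup.eq_one_iff _)

/-- Self-centralisation, pulled back. -/
theorem self_centralizing_comap {L : Subgroup G} [(Cfsg.oddCore ↥L).Normal] {N : Subgroup (↥L ⧸ Cfsg.oddCore ↥L)}
    (hN : ∀ x, (∀ y ∈ N, Commute x y) → x = 1) (x : ↥L)
    (hx : ∀ y ∈ N.comap (QuotientGroup.mk' (Cfsg.oddCore ↥L)), x * y * x⁻¹ * y⁻¹ ∈ Cfsg.oddCore ↥L) :
    x ∈ Cfsg.oddCore ↥L := by
  refine (QuotientGroup.eq_one_iff x).1 (hN (QuotientGroup.mk' (Cfsg.oddCore ↥L) x) fun y hy => ?_)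
  obtain ⟨y, rfl⟩ := QuotientGroup.mk'_surjective _ y
  have h1 : QuotientGroup.mk' (Cfsg.oddCore ↥L) (x * y * x⁻¹ * y⁻¹) = 1 :=
    (QuotientGroup.eq_one_iff _).2 (hx y hy)
  rw [map_mul, map_mul, map_mul, map_inv, map_inv, mul_inv_eq_one, mul_inv_eq_iff_eq_mul] at h1
  exact h1

/-- The quotient of a subgroup by its core. -/
theorem quotient_data (L : Subgroup G) (QL : Sylow 2 ↥L) {m : ℕ}
    (e : (QL : Subgroup ↥L) ≃* DihedralGroup (2 ^ m)) :
    Cfsg.oddCore (↥L ⧸ Cfsg.oddCore ↥L) = ⊥ ∧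
      ∃ T : Sylow 2 (↥L ⧸ Cfsg.oddCore ↥L),
        (T : Subgroup _) = (QL : Subgroup ↥L).map (QuotientGroup.mk' (Cfsg.oddCore ↥L)) ∧
        Nonempty ((T : Subgroup (↥L ⧸ Cfsg.oddCore ↥L)) ≃* DihedralGroup (2 ^ m)) := by
  haveI : Fact (Nat.Prime 2) := ⟨Nat.prime_two⟩
  haveI : (Cfsg.oddCore ↥L).Normal := Grp.pPrimeCore_isNormal
  obtain ⟨f⟩ := sylow_mapSurjective_equiv QL (Cfsg.oddCore ↥L) Grp.pPrimeCore_coprime
  exact ⟨Grp.pPrimeCore_quotient_eq_bot, QL.mapSurjective (QuotientGroup.mk'_surjective _), rfl,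
    ⟨f.symm.trans e⟩⟩

/-- A non-abelian simple normal subgroup has odd index if the Sylow 2-subgroups have order four. -/
theorem index_odd_of_simple {X : Type u} [Group X] [Finite X] (T : Sylow 2 X)
    (h4 : Nat.card (T : Subgroup X) = 4) (N : Subgroup X) [N.Normal] [IsSimpleGroup N]
    (hN : ¬ IsMulCommutative N) : Odd N.index := by
  haveI : Fact (Nat.Prime 2) := ⟨Nat.prime_two⟩
  rw [← Nat.not_even_iff_odd, even_iff_two_dvd]
  intro h2
  refine T.not_dvd_index (h2.trans (index_dvd_of_le ?_))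
  by_contra hnle
  let Q : Sylow 2 N := ((T.isPGroup'.to_le (inf_le_left : (T : Subgroup X) ⊓ N ≤ T)).comap_subtype (K := N)).toSylow
    (by
      show ¬ 2 ∣ ((T : Subgroup X) ⊓ N).relIndex N
      rw [Subgroup.inf_relIndex_right]
      exact Grp.sylow_inf_normal_relIndex T N)
  have hd : Nat.card ↥((T : Subgroup X) ⊓ N) ∣ 2 ^ 2 := by
    have h := card_dvd_of_le (inf_le_left : (T : Subgroup X) ⊓ N ≤ T)
    rw [h4] at h
    exact h
  have hcyc : IsCyclic (Q : Subgroup N) := by
    refine (subgroupOfEquivOfLe (inf_le_right : (T : Subgroup X) ⊓ N ≤ N)).isCyclic.2 ?_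
    obtain ⟨i, hi, hic⟩ := (Nat.dvd_prime_pow Nat.prime_two).1 hd
    rcases i with _ | _ | i
    · haveI := (Nat.card_eq_one_iff_unique.1 (hic.trans (pow_zero 2))).1
      exact isCyclic_of_subsingleton
    · exact isCyclic_of_prime_card (p := 2) (hic.trans (pow_one 2))
    · exfalso
      have h22 : i = 0 := by omega
      have heq : (T : Subgroup X) ⊓ N = (T : Subgroup X) :=
        eq_of_le_of_card_ge inf_le_left (by rw [h4, hic, h22]; norm_num)
      exact hnle (inf_eq_left.1 heq)
  have hp : commutator N = ⊤ := by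
    haveI hn : (commutator N).Normal := inferInstance
    refine hn.eq_bot_or_eq_top.resolve_left fun hb => hN ⟨⟨fun a b => ?_⟩⟩
    have h : ⁅a, b⁆ ∈ commutator N := by
      rw [_root_.commutator_def]; exact commutator_mem_commutator (mem_top a) (mem_top b)
    rw [hb, mem_bot, commutatorElement_eq_one_iff_mul_comm] at h
    exact h
  exact not_subsingleton N (subsingleton_of_cyclic hp Q hcyc)

/-- The known local subgroups, Klein four case. -/
theorem klein_known (IH : KnownBelow.{u} (Nat.card G)) (V : Sylow 2 G)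
    (e : (V : Subgroup G) ≃* DihedralGroup (2 ^ 1)) (L : Subgroup G) (hL : L ≠ ⊤)
    (hVL : (V : Subgroup G) ≤ L) :
    Klein.ThreeClass (V : Subgroup G) L ∨ Klein.A4Kind (V : Subgroup G) L ∨ Klein.LinearKind L := by
  haveI : Fact (Nat.Prime 2) := ⟨Nat.prime_two⟩
  haveI hOn : (Cfsg.oddCore ↥L).Normal := Grp.pPrimeCore_isNormal
  let QL : Sylow 2 ↥L := V.subtype hVL
  have hQL : (QL : Subgroup ↥L) = (V : Subgroup G).subgroupOf L := rfl
  have eQ : (QL : Subgroup ↥L) ≃* DihedralGroup (2 ^ 1) :=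
    (MulEquiv.subgroupCongr hQL).trans ((subgroupOfEquivOfLe hVL).trans e)
  obtain ⟨hO, T₀, hT₀, ⟨eT⟩⟩ := quotient_data L QL eQ
  set q := QuotientGroup.mk' (Cfsg.oddCore ↥L) with hq
  have hT4 : Nat.card (T₀ : Subgroup (↥L ⧸ Cfsg.oddCore ↥L)) = 4 := by
    rw [Nat.card_congr eT.toEquiv, DihedralGroup.nat_card]; norm_num
  have hlt : Nat.card (↥L ⧸ Cfsg.oddCore ↥L) < Nat.card G := by
    refine lt_of_le_of_lt (Nat.card_le_card_of_surjective q (QuotientGroup.mk'_surjective _)) ?_
    refine lt_of_le_of_ne (Nat.card_le_card_of_injective _ L.subtype_injective) fun h => hL ?_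
    exact eq_top_of_card_eq L h
  have hVq : (V : Subgroup G) = ((QL : Subgroup ↥L)).map L.subtype := by
    rw [hQL, map_subgroupOf_eq_of_le hVL]
  have hsup : ((T₀ : Subgroup (↥L ⧸ Cfsg.oddCore ↥L)).comap q).map L.subtype =
      Klein.oddOf L ⊔ (V : Subgroup G) := by
    rw [hT₀, comap_map_eq, QuotientGroup.ker_mk', Subgroup.map_sup, ← hVq, sup_comm]
    rfl
  rcases core_cases hO T₀ le_rfl eT hlt IH with h2 | ⟨T, N, hTn, hT, hTi, hNn, hTN, hN, -, -⟩ |
    ⟨N, hNn, hNs, hNa, -, hPSL⟩
  · left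
    show L ≤ _
    rw [← hsup]
    have htop : (T₀ : Subgroup (↥L ⧸ Cfsg.oddCore ↥L)) = ⊤ :=
      (T₀.3 (Q := ⊤) (h2.of_equiv Subgroup.topEquiv.symm) le_top).symm
    intro x hx
    exact ⟨⟨x, hx⟩, by rw [htop]; exact mem_top _, rfl⟩
  · right; left
    haveI := hTn
    haveI := hT
    have hT2 : IsPGroup 2 T := IsPGroup.of_card (n := 2) IsKleinFour.card_four
    have hTeq : T = (T₀ : Subgroup (↥L ⧸ Cfsg.oddCore ↥L)) :=
      eq_of_le_of_card_ge (hT2.le_sylow_of_normal T₀) (by rw [hT4, IsKleinFour.card_four])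
    have hidx : T.index = 3 := by
      have hodd : ¬ 2 ∣ T.index := hTeq ▸ T₀.not_dvd_index
      have h12 : 12 ≤ 4 * T.index := by
        have h1 := Nat.le_of_dvd Nat.card_pos (card_subgroup_dvd_card N)
        rw [hN, ← T.card_mul_index, IsKleinFour.card_four] at h1
        exact h1
      have hle : T.index ≤ 6 := Nat.le_of_dvd (by norm_num) hTi
      interval_cases h : T.index <;> omega
    haveI : ((T₀ : Subgroup (↥L ⧸ Cfsg.oddCore ↥L)).comap q).Normal := by
      rw [← hTeq]; infer_instance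
    refine ⟨?_, ?_⟩
    · rw [← hsup]
      intro x hx
      refine le_normalizer_map L.subtype ⟨⟨x, hx⟩, ?_, rfl⟩
      rw [normalizer_eq_top]
      exact mem_top _
    · rw [← hsup, Subgroup.relIndex, Subgroup.subgroupOf,
        comap_map_eq_self_of_injective L.subtype_injective, ← hTeq,
        index_comap_of_surjective _ (QuotientGroup.mk'_surjective _), hidx]
  · right; right
    haveI := hNn
    haveI := hNs
    have hodd : Odd N.index := index_odd_of_simple T₀ hT4 N hNa
    rcases hPSL with ⟨F, hF, hFf, hFo, hF3, ⟨f⟩⟩ | hf7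
    · obtain ⟨h1, h2, π, h3, h4⟩ := exists_preimage f
      refine ⟨_, F, hF, hFf, h1, ?_, h2, hFo, ?_, π, h3, h4⟩
      · rw [index_comap_of_surjective _ (QuotientGroup.mk'_surjective _)]; exact hodd
      · obtain ⟨c, hc⟩ := hFo; omega
    · exfalso
      obtain ⟨f⟩ := hf7
      have h8 : 8 ∣ Nat.card (↥L ⧸ Cfsg.oddCore ↥L) := by
        refine dvd_trans ?_ (card_subgroup_dvd_card N)
        rw [Nat.card_congr f.toEquiv, nat_card_alternatingGroup]
        simp only [Nat.card_eq_fintype_card, Fintype.card_fin]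
        decide
      rw [← (T₀ : Subgroup (↥L ⧸ Cfsg.oddCore ↥L)).card_mul_index, hT4] at h8
      exact T₀.not_dvd_index (Nat.dvd_of_mul_dvd_mul_left (show 0 < 4 by norm_num) h8)

/-- The known local subgroups, dihedral case. -/
theorem dihedral_known (IH : KnownBelow.{u} (Nat.card G)) (S : Sylow 2 G) {m : ℕ}
    (e : (S : Subgroup G) ≃* DihedralGroup (2 ^ m)) (L : Subgroup G) (hL : L ≠ ⊤)
    (hW : ∃ W : Subgroup G, W ≤ L ∧ IsKleinFour W) :
    Dihedral.TwoKind L ∨ Dihedral.SimpleKind L := by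
  haveI : Fact (Nat.Prime 2) := ⟨Nat.prime_two⟩
  haveI hOn : (Cfsg.oddCore ↥L).Normal := Grp.pPrimeCore_isNormal
  obtain ⟨W, hWL, hW⟩ := hW
  haveI := hW
  have hW2 : IsPGroup 2 W := IsPGroup.of_card (n := 2) IsKleinFour.card_four
  obtain ⟨QL, hQL⟩ := (hW2.comap_of_injective L.subtype L.subtype_injective :
    IsPGroup 2 (W.subgroupOf L)).exists_le_sylow
  obtain ⟨P, hP⟩ := (QL.isPGroup'.map L.subtype).exists_le_sylow
  have eP : (P : Subgroup G) ≃* DihedralGroup (2 ^ m) := (P.equiv S).trans e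
  have eQL : (QL : Subgroup ↥L) ≃* ↥(((QL : Subgroup ↥L).map L.subtype).subgroupOf (P : Subgroup G)) :=
    (equivMapOfInjective _ L.subtype L.subtype_injective).trans (subgroupOfEquivOfLe hP).symm
  obtain ⟨j, hj, ⟨eQ⟩⟩ : ∃ j, 1 ≤ j ∧ Nonempty ((QL : Subgroup ↥L) ≃* DihedralGroup (2 ^ j)) := by
    have hWQ : ∀ c : Prop, (IsCyclic (QL : Subgroup ↥L) → c) := fun c hc => by
      exfalso
      haveI := hc
      have : IsCyclic (W.subgroupOf L) := isCyclic_of_le hQL
      exact IsKleinFour.not_isCyclic ((subgroupOfEquivOfLe hWL).isCyclic.1 this)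
    rcases Transfer.TwoByCyclic.dihedral_subgroup eP (((QL : Subgroup ↥L).map L.subtype).subgroupOf (P : Subgroup G))
      with hc | ⟨j, ⟨f⟩⟩
    · exact hWQ _ (eQL.isCyclic.2 hc)
    · rcases j with _ | j
      · exact hWQ _ (isCyclic_of_prime_card (p := 2) (by
          rw [Nat.card_congr (eQL.trans f).toEquiv, DihedralGroup.nat_card]; rfl))
      · exact ⟨j + 1, by omega, ⟨eQL.trans f⟩⟩
  obtain ⟨hO, T₀, -, ⟨eT⟩⟩ := quotient_data L QL eQ
  have hlt : Nat.card (↥L ⧸ Cfsg.oddCore ↥L) < Nat.card G := by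
    refine lt_of_le_of_lt (Nat.card_le_card_of_surjective _ (QuotientGroup.mk'_surjective (Cfsg.oddCore ↥L))) ?_
    refine lt_of_le_of_ne (Nat.card_le_card_of_injective _ L.subtype_injective) fun h => hL ?_
    exact eq_top_of_card_eq L h
  rcases core_cases hO T₀ hj eT hlt IH with h2 | ⟨T, N, -, -, -, hNn, -, -, hNc, ⟨f⟩⟩ |
    ⟨N, hNn, -, -, hNc, hPSL⟩
  · exact Or.inl h2
  · haveI := hNn
    haveI : Fact (Nat.Prime 3) := ⟨Nat.prime_three⟩
    obtain ⟨g⟩ := Cfsg.Agent.PSLBin.psl_three_iso (E := ZMod 3) (ZMod.card 3)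
    obtain ⟨h1, h2, π, h3, h4⟩ := exists_preimage (f.trans g.symm)
    exact Or.inr ⟨_, h1, h2, self_centralizing_comap hNc, Or.inr
      ⟨ZMod 3, inferInstance, inferInstance, by rw [ZMod.card]; decide, by rw [ZMod.card], π, h3, h4⟩⟩
  · haveI := hNn
    rcases hPSL with ⟨F, hF, hFf, hFo, hF3, ⟨f⟩⟩ | hf7
    · obtain ⟨h1, h2, π, h3, h4⟩ := exists_preimage f
      exact Or.inr ⟨_, h1, h2, self_centralizing_comap hNc, Or.inr ⟨F, hF, hFf, hFo, hF3.le, π, h3, h4⟩⟩
    · obtain ⟨f⟩ := hf7
      obtain ⟨h1, h2, π, h3, h4⟩ := exists_preimage f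
      exact Or.inr ⟨_, h1, h2, self_centralizing_comap hNc, Or.inl ⟨π, h3, h4⟩⟩

/-- A simple group has no subgroup of index two, if a subgroup of order four is given. -/
theorem no_index_two [IsSimpleGroup G] (h4 : 4 ∣ Nat.card G) (N : Subgroup G) (hN : N.Normal) :
    N.index ≠ 2 := by
  intro h
  rcases hN.eq_bot_or_eq_top with rfl | rfl
  · rw [index_bot] at h; rw [h] at h4; norm_num at h4
  · rw [index_top] at h; omega

/-- The simple groups, by induction. -/
theorem knownBelow (hK : KleinDone.{u}) (hD : DihedralDone.{u}) : ∀ B : ℕ, KnownBelow.{u} B := by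
  intro B
  induction B with
  | zero => intro Y _ _ _ T n _ _ _ hlt; exact absurd hlt (Nat.not_lt_zero _)
  | succ B ih =>
    intro Y _ _ hs T n hn hT hna hlt
    rcases Nat.lt_or_ge (Nat.card Y) B with hlt' | hge
    · exact ih Y T n hn hT hna hlt'
    replace ih : KnownBelow.{u} (Nat.card Y) := by
      rwa [show Nat.card Y = B by omega]
    classical
    haveI : Fact (Nat.Prime 2) := ⟨Nat.prime_two⟩
    obtain ⟨eT⟩ := hT
    obtain ⟨k, hk⟩ : ∃ k, n = 2 ^ k := by
      obtain ⟨i, hi⟩ := IsPGroup.iff_card.1 T.isPGroup'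
      rw [Nat.card_congr eT.toEquiv, DihedralGroup.nat_card] at hi
      rcases i with _ | i
      · omega
      · exact ⟨i, by rw [pow_succ] at hi; omega⟩
    subst hk
    have h4 : 4 ∣ Nat.card Y := by
      refine dvd_trans ?_ (card_subgroup_dvd_card (T : Subgroup Y))
      rw [Nat.card_congr eT.toEquiv, DihedralGroup.nat_card]
      rcases k with _ | k
      · simp at hn
      · exact ⟨2 ^ k, by rw [pow_succ]; ring⟩
    haveI : NeZero (2 ^ k) := ⟨by positivity⟩
    rcases k with _ | _ | k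
    · simp at hn
    · -- Klein four
      haveI hD2 : IsKleinFour (DihedralGroup (2 ^ (0 + 1))) := by
        rw [show 2 ^ (0 + 1) = 2 from rfl]; infer_instance
      have hV : IsKleinFour (T : Subgroup Y) :=
        ⟨by rw [Nat.card_congr eT.toEquiv, IsKleinFour.card_four],
          by rw [Monoid.exponent_eq_of_mulEquiv eT, IsKleinFour.exponent_two]⟩
      set t : Y := ((eT.symm (.r 1) : (T : Subgroup Y)) : Y) with ht
      set u : Y := ((eT.symm (.sr 0) : (T : Subgroup Y)) : Y) with hu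
      have htT : t ∈ (T : Subgroup Y) := (eT.symm _).2
      have huT : u ∈ (T : Subgroup Y) := (eT.symm _).2
      have ht1 : t ≠ 1 := fun h => by
        have h2 := congrArg orderOf
          (eT.symm.injective ((Subtype.ext h : eT.symm (.r 1) = 1).trans (map_one _).symm))
        rw [DihedralGroup.orderOf_r_one, orderOf_one] at h2
        norm_num at h2
      have hu1 : u ≠ 1 := fun h => by
        have h2 := congrArg orderOf
          (eT.symm.injective ((Subtype.ext h : eT.symm (.sr 0) = 1).trans (map_one _).symm))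
        rw [DihedralGroup.orderOf_sr, orderOf_one] at h2
        norm_num at h2
      have htu : t ≠ u := fun h => by
        exact nomatch eT.symm.injective (Subtype.ext h : eT.symm (.r 1) = eT.symm (.sr 0))
      obtain ⟨g, hg, -⟩ := Fus.FundPair.exists_three_cycle (fun N hN => no_index_two h4 N hN) T hV htT huT ht1 hu1 htu
      have hall : ∀ s : Y, orderOf s = 2 → IsConj t s := fun s hs2 => by
        obtain ⟨c, hc⟩ := exists_conj_mem_sylow (p := 2) (n := 1) (by rw [hs2, pow_one]) T
        have hne : c * s * c⁻¹ ≠ 1 := by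
          simpa using (orderOf_two_iff.1 hs2).2
        exact (klein_all_conj T hV htT huT ht1 htu (isConj_iff.2 ⟨g, hg⟩) hc hne).trans
          (isConj_iff.2 ⟨c, rfl⟩ : IsConj s (c * s * c⁻¹)).symm
      exact hK T t u ⟨hs, hV, htT, huT, ht1, hu1, htu, fun a b ha hb => (hall a ha).symm.trans (hall b hb),
        fun L hL hTL => klein_known ih T eT L hL hTL⟩
    · -- order at least eight
      have h4m : 4 ∣ 2 ^ (k + 1 + 1) := ⟨2 ^ k, by rw [pow_succ, pow_succ]; ring⟩
      have hone : ∀ a b : Y, orderOf a = 2 → orderOf b = 2 → IsConj a b := by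
        rcases Grp.DihClasses.trichotomy T h4m eT with ⟨hc, -⟩ | ⟨-, ⟨N, hN, hN2⟩, -⟩ | ⟨-, P, N, hN, hNP⟩
        · intro a b ha hb
          haveI := (Nat.card_eq_one_iff_unique.1 hc).1
          exact ConjClasses.mk_eq_mk_iff_isConj.1 (congrArg Subtype.val (Subsingleton.elim
            (⟨ConjClasses.mk a, a, rfl, ha⟩ : {C : ConjClasses Y // ∃ g : Y, ConjClasses.mk g = C ∧ orderOf g = 2})
            ⟨ConjClasses.mk b, b, rfl, hb⟩))
        · exact absurd hN2 (no_index_two h4 N hN)
        · exfalso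
          rcases hN.eq_bot_or_eq_top with rfl | rfl
          · have hP : (P : Subgroup Y) = ⊤ := by
              have := hNP.sup_eq_top
              rwa [bot_sup_eq] at this
            have h2 : IsPGroup 2 Y := by
              have := P.isPGroup'
              rw [hP] at this
              exact this.of_equiv Subgroup.topEquiv
            haveI := h2.isNilpotent
            exact hna ⟨⟨fun a b => IsSimpleGroup.comm_iff_isSolvable.2 inferInstance a b⟩⟩
          · have h1 := hNP.symm.index_eq_card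
            rw [index_top] at h1
            obtain ⟨i, hi⟩ := IsPGroup.iff_card.1 P.isPGroup'
            have h2 := P.not_dvd_index
            rw [← (P : Subgroup Y).card_mul_index, ← h1, one_mul] at h4
            exact h2 (dvd_trans (by norm_num) h4)
      refine hD T ((eT.symm (.r 1) : (T : Subgroup Y)) : Y) ((eT.symm (.sr 0) : (T : Subgroup Y)) : Y)
        (k + 1 + 1 + 1) ⟨hs, by omega, (eT.symm _).2, (eT.symm _).2, ?_, ?_, ?_, ⟨eT⟩, hone,
          fun L hL hW => dihedral_known ih T eT L hL hW⟩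
      · rw [Subgroup.orderOf_coe, MulEquiv.orderOf_eq, DihedralGroup.orderOf_r_one]; rfl
      · rw [Subgroup.orderOf_coe, MulEquiv.orderOf_eq, DihedralGroup.orderOf_sr]
      · rw [← Subgroup.coe_inv, ← Subgroup.coe_inv, ← Subgroup.coe_mul, ← Subgroup.coe_mul, ← map_inv, ← map_inv,
          ← map_mul, ← map_mul]
        congr 2
        simp

/-- The statement of S0483 from the two configurations. -/
theorem gwStatement_of (hK : KleinDone.{u}) (hD : DihedralDone.{u}) : GWStatement.{u} :=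
  fun {_} _ _ _ S n hn hS => s0483_of_simple
    (fun Y _ _ _ T m hm hT hna => knownBelow hK hD (Nat.card Y + 1) Y T m hm hT hna (Nat.lt_succ_self _)) S n hn hS

end Cfsg.Agent.Invol.GW.Induction
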