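import Cfsg.Agent.Lib.Invol.GW.Endgame
import Cfsg.Agent.Lib.Fus.DihedralFixed
import Cfsg.Agent.Lib.Fus.DihedralAut
import Cfsg.Agent.Lib.Fus.OddSylowCyclicDerived
import Cfsg.Agent.Lib.Grp.Pyramidal.CentCase
import Cfsg.Agent.Lib.Transfer.TwoByCyclic
import Cfsg.Agent.Lib.Classical.PSLBinary
import Cfsg.Agent.Lib.Classical.DicksonSmall

/-!
# Gorenstein–Walter: groups with dihedral Sylow 2-subgroups and trivial core

If the simple such groups of order at most `|X|` are known, then `X` is a 2-group, or an extension of `A₄`, or has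
a self-centralizing normal subgroup `PSL₂(q)` or `A₇`.
-/

set_option autoImplicit false
set_option linter.unusedSectionVars false
set_option linter.style.haveILetI false

namespace Cfsg.Agent.Invol.GW.Induction

open Subgroup

universe u

/-- The simple groups with dihedral Sylow 2-subgroups of order less than `N` are known. -/
def KnownBelow (N : ℕ) : Prop :=
  ∀ (Y : Type u) [Group Y] [Finite Y] [IsSimpleGroup Y] (T : Sylow 2 Y) (n : ℕ), 2 ≤ n →
    Nonempty ((T : Subgroup Y) ≃* DihedralGroup n) → ¬ IsMulCommutative Y → Nat.card Y < N →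
    IsPSLTwoOrSeven Y

variable {X : Type u} [Group X] [Finite X]

/-- The automorphism group of a group of order four has order dividing six. -/
theorem card_mulAut_four {T : Type u} [Group T] [Finite T] (h4 : Nat.card T = 4) :
    Nat.card (MulAut T) ∣ 6 := by
  classical
  haveI := Fintype.ofFinite T
  let f : MulAut T →* Equiv.Perm {x : T // x ≠ 1} :=
    { toFun := fun ψ => ψ.toEquiv.subtypeEquiv fun x => by simp
      map_one' := by ext; rfl
      map_mul' := fun _ _ => by ext; rfl }
  have hf : Function.Injective f := fun a b hab => MulEquiv.ext fun x => by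
    by_cases hx : x = 1
    · rw [hx, map_one, map_one]
    · exact congrArg Subtype.val (DFunLike.congr_fun hab (⟨x, hx⟩ : {x : T // x ≠ 1}))
  refine (Subgroup.card_dvd_of_injective f hf).trans ?_
  rw [Nat.card_perm]
  have h3 : Nat.card {x : T // x ≠ 1} = 3 := by
    rw [Nat.card_eq_fintype_card, Fintype.card_subtype_compl, Fintype.card_subtype_eq,
      ← Nat.card_eq_fintype_card, h4]
  rw [h3]; norm_num [Nat.factorial]

/-- A subgroup of the Sylow subgroup is cyclic or dihedral, so a centralizer of an involution has a normal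
2-complement. -/
theorem isPGroup_of_central (hO : Cfsg.oddCore X = ⊥) (S : Sylow 2 X) {m : ℕ}
    (e : (S : Subgroup X) ≃* DihedralGroup (2 ^ m)) (H : Subgroup X) [H.Normal] {z : X} (hzH : z ∈ H)
    (hz : orderOf z = 2) (hzc : ∀ x ∈ H, Commute x z) : IsPGroup 2 H := by
  haveI : Fact (Nat.Prime 2) := ⟨Nat.prime_two⟩
  let Q : Sylow 2 H := ((S.isPGroup'.to_le (inf_le_left : (S : Subgroup X) ⊓ H ≤ S)).comap_subtype (K := H)).toSylow
    (by
      show ¬ 2 ∣ ((S : Subgroup X) ⊓ H).relIndex H
      rw [Subgroup.inf_relIndex_right]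
      exact Grp.sylow_inf_normal_relIndex S H)
  have eQ : (Q : Subgroup H) ≃* ↥(H.subgroupOf (S : Subgroup X)) :=
    ((Subgroup.subgroupOfEquivOfLe (inf_le_right : (S : Subgroup X) ⊓ H ≤ H)).trans
      (Subgroup.subgroupOfEquivOfLe (inf_le_left : (S : Subgroup X) ⊓ H ≤ S)).symm).trans
      (MulEquiv.subgroupCongr (Subgroup.inf_subgroupOf_left ..))
  -- a normal 2-complement
  obtain ⟨K, hK, hKodd, hKi⟩ : ∃ K : Subgroup H, K.Normal ∧ ¬ 2 ∣ Nat.card K ∧
      ∃ k : ℕ, K.index = 2 ^ k := by
    rcases Transfer.TwoByCyclic.dihedral_subgroup e (H.subgroupOf (S : Subgroup X)) with hc | ⟨j, ⟨f⟩⟩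
    · obtain ⟨K, h1, h2, h3⟩ := Block.cyclic_two_complement Q (eQ.isCyclic.2 hc)
      obtain ⟨k, hk⟩ := IsPGroup.iff_card.1 Q.isPGroup'
      exact ⟨K, h1, h2, k, h3.trans hk⟩
    · haveI : NeZero (2 ^ j) := ⟨by positivity⟩
      have hnpc := Fus.centralizer_normalTwoComplement Q (eQ.trans f) ⟨z, hzH⟩
        (by rw [← Subgroup.orderOf_coe]; exact hz)
      have htop : centralizer ({(⟨z, hzH⟩ : H)} : Set H) = ⊤ := eq_top_iff.2 fun x _ =>
        mem_centralizer_singleton_iff.2 (Subtype.ext (hzc x x.2).eq)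
      rw [htop] at hnpc
      obtain ⟨P, N, hN, hNP⟩ := hnpc
      obtain ⟨k, hk⟩ := IsPGroup.iff_card.1 P.isPGroup'
      refine ⟨N.map (Subgroup.topEquiv : (⊤ : Subgroup H) ≃* H).toMonoidHom,
        hN.map _ (Subgroup.topEquiv : (⊤ : Subgroup H) ≃* H).surjective, ?_, k, ?_⟩
      · rw [card_map_of_injective (Subgroup.topEquiv : (⊤ : Subgroup H) ≃* H).injective]
        intro hd
        refine P.not_dvd_index ?_
        rwa [hNP.index_eq_card]
      · rw [show ((Subgroup.topEquiv : (⊤ : Subgroup H) ≃* H).toMonoidHom) =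
          ((Subgroup.topEquiv : (⊤ : Subgroup H) ≃* H) : _ →* _) from rfl, Subgroup.index_map_equiv,
          hNP.symm.index_eq_card, hk]
  have hKbot : K = ⊥ := by
    have hcop : (Nat.card K).Coprime 2 := Nat.coprime_comm.1 (Nat.prime_two.coprime_iff_not_dvd.2 hKodd)
    have h1 : K ≤ Cfsg.pPrimeCore 2 H := Grp.le_pPrimeCore hK hcop
    haveI : (Cfsg.pPrimeCore 2 H).Characteristic := inferInstance
    haveI hn : ((Cfsg.pPrimeCore 2 H).map H.subtype).Normal := ConjAct.normal_of_characteristic_of_normal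
    have h2 : (Cfsg.pPrimeCore 2 H).map H.subtype ≤ Cfsg.oddCore X := Grp.le_pPrimeCore hn (by
      rw [card_map_of_injective H.subtype_injective]
      exact Grp.pPrimeCore_coprime)
    rw [hO, le_bot_iff, map_eq_bot_iff_of_injective _ H.subtype_injective] at h2
    exact le_bot_iff.1 (h2 ▸ h1)
  obtain ⟨k, hk⟩ := hKi
  rw [hKbot, index_bot] at hk
  exact IsPGroup.of_card hk

/-- A normal four subgroup. -/
theorem normal_four (hO : Cfsg.oddCore X = ⊥) (S : Sylow 2 X) {m : ℕ}
    (e : (S : Subgroup X) ≃* DihedralGroup (2 ^ m)) (T : Subgroup X) [T.Normal] (hT : IsKleinFour T)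
    (hmax : Cfsg.pCore 2 X ≤ T) :
    IsPGroup 2 X ∨ (centralizer (T : Set X) = T ∧ T.index ∣ 6 ∧
      ∃ N : Subgroup X, N.Normal ∧ T ≤ N ∧ Nat.card N = 12 ∧
        (∀ x : X, (∀ y ∈ N, Commute x y) → x = 1) ∧ Nonempty (N ≃* alternatingGroup (Fin 4))) := by
  classical
  haveI : Fact (Nat.Prime 2) := ⟨Nat.prime_two⟩
  haveI : Fact (Nat.Prime 3) := ⟨Nat.prime_three⟩
  haveI := hT
  have hcomm : ∀ a ∈ T, ∀ b ∈ T, Commute a b := fun a ha b hb =>
    congrArg Subtype.val (IsKleinFour.isMulCommutative.is_comm.comm (⟨a, ha⟩ : T) ⟨b, hb⟩)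
  have hsq : ∀ a ∈ T, a * a = 1 := fun a ha => congrArg Subtype.val (IsKleinFour.mul_self (⟨a, ha⟩ : T))
  obtain ⟨a, haT, ha1⟩ := (bot_or_exists_ne_one T).resolve_left fun h => by
    have h4 := IsKleinFour.card_four (G := T)
    rw [h, card_bot] at h4
    omega
  have hC : centralizer (T : Set X) = T := by
    refine le_antisymm ?_ (fun x hx => mem_centralizer_iff.2 fun y hy => (hcomm y hy x hx).eq)
    have h2 : IsPGroup 2 (centralizer (T : Set X)) := isPGroup_of_central hO S e _
      (mem_centralizer_iff.2 fun y hy => (hcomm y hy a haT).eq)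
      (orderOf_eq_prime (by rw [pow_two]; exact hsq a haT) ha1)
      fun x hx => (mem_centralizer_iff.1 hx a haT).symm
    exact (Grp.le_pCore inferInstance h2).trans hmax
  -- the action
  let φ : X →* MulAut T := MulAut.conjNormal
  have hker : φ.ker = T := by
    refine Eq.trans ?_ hC
    ext x
    rw [MonoidHom.mem_ker, mem_centralizer_iff]
    constructor
    · intro hx y hy
      have h1 := congrArg Subtype.val (DFunLike.congr_fun hx ⟨y, hy⟩)
      rw [MulAut.conjNormal_apply] at h1
      exact (mul_inv_eq_iff_eq_mul.1 h1).symm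
    · intro hx
      refine MulEquiv.ext fun y => Subtype.ext ?_
      rw [MulAut.conjNormal_apply, ← hx y y.2]
      exact mul_inv_cancel_right _ _
  have hidx : T.index ∣ 6 := by
    rw [← hker, index_ker]
    refine (card_subgroup_dvd_card _).trans ?_
    exact card_mulAut_four (IsKleinFour.card_four)
  by_cases h3 : 3 ∣ T.index
  swap
  · left
    have h2 : T.index ∣ 2 := by
      refine (Nat.Coprime.dvd_mul_right ?_).1 (show T.index ∣ 2 * 3 from hidx)
      exact (Nat.prime_three.coprime_iff_not_dvd.2 h3).symm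
    obtain ⟨i, -, hi⟩ := (Nat.dvd_prime_pow Nat.prime_two).1 (show T.index ∣ 2 ^ 1 from h2)
    refine IsPGroup.of_card (n := 2 + i) ?_
    rw [← T.card_mul_index, IsKleinFour.card_four, hi, pow_add]
    norm_num
  right
  refine ⟨hC, hidx, ?_⟩
  obtain ⟨x, hx⟩ := exists_prime_orderOf_dvd_card' (G := X) 3 (h3.trans (index_dvd_card T))
  have hxT : x ∉ T := fun h => by
    have h1 := T.orderOf_dvd_natCard h
    rw [hx, IsKleinFour.card_four] at h1
    norm_num at h1
  -- `x` fixes only the identity of `T`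
  have hfpf : ∀ y ∈ T, Commute x y → y = 1 := by
    intro y hy hxy
    by_contra hy1
    obtain ⟨z, hz, hz1, hzy⟩ : ∃ z ∈ T, z ≠ 1 ∧ z ≠ y := by
      by_contra hcon
      push Not at hcon
      have hle : T ≤ zpowers y := fun w hw => by
        by_cases hw1 : w = 1
        · exact hw1 ▸ one_mem _
        · exact hcon w hw hw1 ▸ mem_zpowers y
      have h4 := card_dvd_of_le hle
      rw [IsKleinFour.card_four, Nat.card_zpowers,
        orderOf_eq_prime (by rw [pow_two]; exact hsq y hy) hy1] at h4
      norm_num at h4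
    have hmem : ∀ w ∈ T, w = 1 ∨ w = y ∨ w = z ∨ w = y * z := fun w hw => by
      by_contra hne
      push Not at hne
      exact hne.2.2.2 (congrArg Subtype.val (IsKleinFour.eq_mul_of_ne_all
        (x := (⟨y, hy⟩ : T)) (y := ⟨z, hz⟩) (z := ⟨w, hw⟩)
        (fun e => hy1 (congrArg Subtype.val e)) (fun e => hz1 (congrArg Subtype.val e))
        (fun e => hzy (congrArg Subtype.val e).symm) (fun e => hne.1 (congrArg Subtype.val e))
        (fun e => hne.2.1 (congrArg Subtype.val e)) (fun e => hne.2.2.1 (congrArg Subtype.val e))))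
    have hxz : ¬ Commute x z := fun hxz => hxT (hC ▸ mem_centralizer_iff.2 fun w hw => by
      rcases hmem w hw with rfl | rfl | rfl | rfl
      · rw [one_mul, mul_one]
      · exact hxy.symm.eq
      · exact hxz.symm.eq
      · exact (hxy.mul_right hxz).symm.eq)
    have hxy' : x * y * x⁻¹ = y := by rw [hxy.eq, mul_inv_cancel_right]
    rcases hmem _ ((inferInstance : T.Normal).conj_mem z hz x) with h | h | h | h
    · exact hz1 (mul_eq_left.1 (mul_inv_eq_one.1 h))
    · exact hzy (mul_left_cancel (mul_right_cancel (h.trans hxy'.symm)))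
    · exact hxz (mul_inv_eq_iff_eq_mul.1 h)
    · refine hxz ?_
      have h2 : Commute (x * x) z := by
        refine mul_inv_eq_iff_eq_mul.1 ?_
        rw [show x * x * z * (x * x)⁻¹ = x * (x * z * x⁻¹) * x⁻¹ by group, h,
          show x * (y * z) * x⁻¹ = x * y * x⁻¹ * (x * z * x⁻¹) by group, hxy', h, ← mul_assoc,
          hsq y hy, one_mul]
      have hx4 : x = (x * x) * (x * x) := by
        have := pow_orderOf_eq_one x
        rw [hx, pow_succ, pow_two] at this
        rw [← mul_assoc, this, one_mul]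
      rw [hx4]
      exact h2.mul_left h2
  set N := T ⊔ zpowers x with hN
  have hinf : T ⊓ zpowers x = ⊥ := inf_eq_bot_of_coprime (by
    rw [IsKleinFour.card_four, Nat.card_zpowers, hx]; norm_num)
  have hcard : Nat.card N = 12 := by
    have h1 := Grp.card_sup_mul_card_inf_normal (H := zpowers x) (N := T)
    rw [inf_comm, hinf, card_bot, mul_one, Nat.card_zpowers, hx, IsKleinFour.card_four (G := T), sup_comm] at h1
    exact h1
  have hTN : T ≤ N := le_sup_left
  haveI hNn : N.Normal := by
    have h1 : N.index ∣ 2 := by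
      have h2 := N.card_mul_index
      have h4 := T.card_mul_index
      rw [hcard] at h2
      rw [IsKleinFour.card_four] at h4
      obtain ⟨c, hc⟩ := hidx
      refine ⟨c, Nat.eq_of_mul_eq_mul_left (show 0 < 12 by norm_num) ?_⟩
      calc 12 * 2 = 4 * (T.index * c) := by rw [← hc]
        _ = 12 * N.index * c := by rw [← mul_assoc, h4, h2]
        _ = 12 * (N.index * c) := mul_assoc _ _ _
    rcases (Nat.dvd_prime Nat.prime_two).1 h1 with h | h
    · rw [index_eq_one.1 h]; infer_instance
    · exact normal_of_index_eq_two h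
  refine ⟨N, hNn, hTN, hcard, fun w hw => ?_, ?_⟩
  · have hwT : w ∈ T := hC ▸ mem_centralizer_iff.2 fun y hy => (hw y (hTN hy)).eq.symm
    exact hfpf w hwT (hw x (mem_sup_right (mem_zpowers x))).symm
  · refine Dickson.nonempty_alternating_four hcard ((zpowers x).subgroupOf N) ?_ ?_
    · rw [Nat.card_congr (subgroupOfEquivOfLe (le_sup_right : zpowers x ≤ N)).toEquiv, Nat.card_zpowers, hx]
    · refine le_antisymm ?_ le_normalizer
      intro w hw
      have hw' : ∀ i ∈ zpowers x, (w : X) * i * (w : X)⁻¹ ∈ zpowers x := fun i hi =>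
        (mem_normalizer_iff.1 hw ⟨i, le_sup_right (a := T) hi⟩).1 hi
      obtain ⟨y, hy, c, hc, hyc⟩ : ∃ y ∈ T, ∃ c ∈ zpowers x, y * c = (w : X) := by
        have h1 : (w : X) ∈ (↑(T ⊔ zpowers x) : Set X) := w.2
        rw [Subgroup.normal_mul] at h1
        exact h1
      have h2 : y * x * y⁻¹ ∈ zpowers x := by
        obtain ⟨i, rfl⟩ := hc
        have h3 := hw' x (mem_zpowers x)
        rwa [← hyc, show y * x ^ i * x * (y * x ^ i)⁻¹ = y * (x ^ i * x * (x ^ i)⁻¹) * y⁻¹ by group,
          show x ^ i * x * (x ^ i)⁻¹ = x by group] at h3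
      have h4 : y * x * y⁻¹ * x⁻¹ ∈ T ⊓ zpowers x := by
        refine ⟨show _ ∈ T from ?_, (zpowers x).mul_mem h2 ((zpowers x).inv_mem (mem_zpowers x))⟩
        rw [show y * x * y⁻¹ * x⁻¹ = y * (x * y⁻¹ * x⁻¹) by group]
        exact mul_mem hy ((inferInstance : T.Normal).conj_mem _ (inv_mem hy) x)
      rw [hinf, mem_bot, mul_inv_eq_one, mul_inv_eq_iff_eq_mul] at h4
      have hy1 := hfpf y hy (show Commute x y from h4.symm)
      show (w : X) ∈ zpowers x
      rw [← hyc, hy1, one_mul]
      exact hc

/-- The automorphism group of a cyclic 2-group is a 2-group. -/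
theorem isPGroup_mulAut_cyclic {C : Type u} [Group C] [Finite C] [IsCyclic C] (h : IsPGroup 2 C) :
    IsPGroup 2 (MulAut C) := by
  haveI : Fact (Nat.Prime 2) := ⟨Nat.prime_two⟩
  obtain ⟨k, hk⟩ := IsPGroup.iff_card.1 h
  rcases k with _ | k
  · refine IsPGroup.of_card (n := 0) ?_
    rw [IsCyclic.card_mulAut, hk]
    simp
  · refine IsPGroup.of_card (n := k) ?_
    rw [IsCyclic.card_mulAut, hk, Nat.totient_prime_pow_succ Nat.prime_two]
    simp

/-- An involution rotation of a dihedral group is the half turn. -/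
theorem rotation_two {h : ℕ} (hh : 0 < h) {i : ZMod (h + h)}
    (hi : orderOf (DihedralGroup.r i) = 2) : i = ((h : ℕ) : ZMod (h + h)) := by
  haveI : NeZero (h + h) := ⟨by omega⟩
  rw [DihedralGroup.orderOf_r] at hi
  have hlt := ZMod.val_lt i
  obtain ⟨c, hc⟩ := Nat.gcd_dvd_right (h + h) i.val
  have hd := Nat.div_mul_cancel (Nat.gcd_dvd_left (h + h) i.val)
  rw [hi] at hd
  rw [← ZMod.natCast_zmod_val i]
  congr 1
  have hg : Nat.gcd (h + h) i.val = h := by omega
  rw [hg] at hc
  rcases c with _ | _ | c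
  · rw [hc, mul_zero, Nat.gcd_zero_right] at hg
    omega
  · omega
  · exfalso; nlinarith

/-- Commuting involutions of a dihedral group generate at most a four group. -/
theorem dihedral_rank_two {n h : ℕ} (hn : n = h + h) (hh : 0 < h) {a b c : DihedralGroup n}
    (ha : orderOf a = 2) (hb : orderOf b = 2) (hc : orderOf c = 2) (hab : a * b = b * a)
    (hac : a * c = c * a) (hbc : b * c = c * b) (hne : a ≠ b) : c = a ∨ c = b ∨ c = a * b := by
  subst hn
  haveI : NeZero (h + h) := ⟨by omega⟩
  have hhh : ((h : ℕ) : ZMod (h + h)) + (h : ℕ) = 0 := by rw [← Nat.cast_add, ZMod.natCast_self]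
  have h1 : ∀ x : DihedralGroup (h + h), orderOf x = 2 → x ≠ 1 := fun x hx e => by
    rw [e, orderOf_one] at hx; omega
  have key : ∀ (i : ZMod (h + h)) (b c : DihedralGroup (h + h)), orderOf b = 2 → orderOf c = 2 →
      b * .sr i = .sr i * b → c * .sr i = .sr i * c → b ≠ .sr i →
      c = .sr i ∨ c = b ∨ c = .sr i * b := by
    intro i b c hb hc hbi hci hne
    rcases Grp.DihNPC.commute_sr hh hbi with e | e | e | e
    · exact absurd e (h1 b hb)
    · subst e
      rcases Grp.DihNPC.commute_sr hh hci with e | e | e | e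
      · exact absurd e (h1 c hc)
      · exact Or.inr (Or.inl e)
      · exact Or.inl e
      · exact Or.inr (Or.inr (by rw [DihedralGroup.sr_mul_r]; exact e))
    · exact absurd e hne
    · subst e
      rcases Grp.DihNPC.commute_sr hh hci with e | e | e | e
      · exact absurd e (h1 c hc)
      · exact Or.inr (Or.inr (by rw [DihedralGroup.sr_mul_sr, add_sub_cancel_left]; exact e))
      · exact Or.inl e
      · exact Or.inr (Or.inl e)
  cases a with
  | sr i => exact key i b c hb hc hab.symm hac.symm (Ne.symm hne)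
  | r i =>
    cases b with
    | r k => exact absurd (by rw [rotation_two hh ha, rotation_two hh hb]) hne
    | sr k =>
      rcases key k _ c ha hc hab hbc.symm hne with e | e | e
      · exact Or.inr (Or.inl e)
      · exact Or.inl e
      · exact Or.inr (Or.inr (e.trans hab.symm))

/-- Groups with dihedral Sylow 2-subgroups and trivial core. -/
theorem core_cases (hO : Cfsg.oddCore X = ⊥) (S : Sylow 2 X) {m : ℕ} (hm : 1 ≤ m)
    (e : (S : Subgroup X) ≃* DihedralGroup (2 ^ m)) {B : ℕ} (hB : Nat.card X < B) (IH : KnownBelow.{u} B) :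
    IsPGroup 2 X ∨
    (∃ T N : Subgroup X, T.Normal ∧ IsKleinFour T ∧ T.index ∣ 6 ∧ N.Normal ∧ T ≤ N ∧ Nat.card N = 12 ∧
      (∀ x : X, (∀ y ∈ N, Commute x y) → x = 1) ∧ Nonempty (N ≃* alternatingGroup (Fin 4))) ∨
    ∃ N : Subgroup X, N.Normal ∧ IsSimpleGroup N ∧ ¬ IsMulCommutative N ∧
      (∀ x : X, (∀ y ∈ N, Commute x y) → x = 1) ∧ IsPSLTwoOrSeven N := by
  classical
  haveI : Fact (Nat.Prime 2) := ⟨Nat.prime_two⟩
  haveI : NeZero (2 ^ m) := ⟨by positivity⟩
  set T := Cfsg.pCore 2 X with hTdef
  haveI hTn : T.Normal := Grp.pCore_isNormal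
  by_cases hT : T = ⊥
  swap
  · have hT2 : IsPGroup 2 T := Grp.pCore_isPGroup
    have hTS : T ≤ (S : Subgroup X) := Grp.pCore_le_sylow S
    have haut : IsPGroup 2 (MulAut T) → IsPGroup 2 X := by
      intro h
      obtain ⟨z, hz, hz2⟩ : ∃ z ∈ Subgroup.center T, orderOf z = 2 := by
        haveI : Nontrivial T := (nontrivial_iff_ne_bot T).2 hT
        haveI := hT2.center_nontrivial
        obtain ⟨k, hk0, hk⟩ := (hT2.to_subgroup (Subgroup.center T)).nontrivial_iff_card.1 inferInstance
        exact Invol.exists_orderOf_two_mem (by rw [hk]; exact (Nat.even_pow.2 ⟨even_two, hk0.ne'⟩))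
      set C := centralizer (T : Set X) with hC
      have hzC : (z : X) ∈ C := mem_centralizer_iff.2 fun y hy =>
        congrArg Subtype.val (mem_center_iff.1 hz ⟨y, hy⟩)
      have hC2 : IsPGroup 2 C := isPGroup_of_central hO S e C hzC
        (by rw [Subgroup.orderOf_coe]; exact hz2) fun x hx => (mem_centralizer_iff.1 hx z z.2).symm
      let φ : X →* MulAut T := MulAut.conjNormal
      have hker : φ.ker ≤ C := fun x hx => mem_centralizer_iff.2 fun y hy => by
        have h1 := congrArg Subtype.val (DFunLike.congr_fun (MonoidHom.mem_ker.1 hx) ⟨y, hy⟩)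
        rw [MulAut.conjNormal_apply] at h1
        exact (mul_inv_eq_iff_eq_mul.1 h1).symm
      obtain ⟨i, hi⟩ := IsPGroup.iff_card.1 (hC2.to_le hker)
      obtain ⟨j, hj⟩ := IsPGroup.iff_card.1 (h.to_subgroup φ.range)
      exact IsPGroup.of_card (n := i + j) (by rw [← φ.ker.card_mul_index, index_ker, hi, hj, pow_add])
    rcases Transfer.TwoByCyclic.dihedral_subgroup e (T.subgroupOf (S : Subgroup X)) with hc | ⟨j, ⟨f⟩⟩
    · haveI : IsCyclic T := (subgroupOfEquivOfLe hTS).isCyclic.1 hc
      exact Or.inl (haut (isPGroup_mulAut_cyclic hT2))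
    · let f' : T ≃* DihedralGroup (2 ^ j) := (subgroupOfEquivOfLe hTS).symm.trans f
      rcases Nat.lt_trichotomy j 1 with hj | hj | hj
      · haveI : IsCyclic T := isCyclic_of_prime_card (p := 2) (by
          rw [Nat.card_congr f'.toEquiv, DihedralGroup.nat_card, show j = 0 by omega]; rfl)
        exact Or.inl (haut (isPGroup_mulAut_cyclic hT2))
      · subst hj
        have hK : IsKleinFour T := by
          haveI : IsKleinFour (DihedralGroup (2 ^ 1)) := by rw [pow_one]; infer_instance
          exact ⟨by rw [Nat.card_congr f'.toEquiv, IsKleinFour.card_four],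
            by rw [Monoid.exponent_eq_of_mulEquiv f', IsKleinFour.exponent_two]⟩
        rcases normal_four hO S e T hK le_rfl with h | ⟨-, hi, N, h1, h2, h3, h4, h5⟩
        · exact Or.inl h
        · exact Or.inr (Or.inl ⟨T, N, hTn, hK, hi, h1, h2, h3, h4, h5⟩)
      · exact Or.inl (haut (Fus.isPGroup_mulAut_congr f' (Fus.isPGroup_mulAut_dihedralGroup hj)))
  · -- no normal 2-subgroup: not solvable
    right; right
    have hns : ¬ Group.IsSolvable (⊤ : Subgroup X) := by
      intro hsol
      haveI : Group.IsSolvable X := Group.isSolvable_of_surjective (f := (⊤ : Subgroup X).subtype)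
        fun x => ⟨⟨x, mem_top x⟩, rfl⟩
      have h1 := Fus.centralizer_pCore_le_of_solvable (p := 2) (G := X) hO
      rw [← hTdef, hT, Subgroup.coe_bot] at h1
      have hev : (S : Subgroup X) ≤ ⊥ := fun x _ => h1 (mem_centralizer_iff.2 fun y hy => by
        rw [Set.mem_singleton_iff] at hy; rw [hy, one_mul, mul_one])
      have h2 : Nat.card (S : Subgroup X) = 1 := by rw [le_bot_iff.1 hev, card_bot]
      rw [Nat.card_congr e.toEquiv, DihedralGroup.nat_card] at h2
      omega
    obtain ⟨N, hNn, -, hN, hperf⟩ := Grp.Pyramidal.exists_perfect_normal hns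
    haveI := hNn
    haveI : Group.IsPerfect N := Subgroup.isPerfect_iff.2 hperf
    have hp : commutator N = ⊤ := Group.IsPerfect.commutator_eq_top
    let Q : Sylow 2 N := ((S.isPGroup'.to_le (inf_le_left : (S : Subgroup X) ⊓ N ≤ S)).comap_subtype (K := N)).toSylow
      (by
        show ¬ 2 ∣ ((S : Subgroup X) ⊓ N).relIndex N
        rw [Subgroup.inf_relIndex_right]
        exact Grp.sylow_inf_normal_relIndex S N)
    have eQ : (Q : Subgroup N) ≃* ↥(N.subgroupOf (S : Subgroup X)) :=
      ((subgroupOfEquivOfLe (inf_le_right : (S : Subgroup X) ⊓ N ≤ N)).trans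
        (subgroupOfEquivOfLe (inf_le_left : (S : Subgroup X) ⊓ N ≤ S)).symm).trans
        (MulEquiv.subgroupCongr (inf_subgroupOf_left ..))
    haveI : Nontrivial N := by
      by_contra h
      rw [not_nontrivial_iff_subsingleton] at h
      exact hN inferInstance
    have hncyc : ¬ IsCyclic (Q : Subgroup N) := fun h =>
      not_subsingleton N (subsingleton_of_cyclic hp Q h)
    obtain ⟨j, ⟨f⟩⟩ := (Transfer.TwoByCyclic.dihedral_subgroup e (N.subgroupOf (S : Subgroup X))).resolve_left
      fun h => hncyc (eQ.isCyclic.2 h)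
    have hj : 2 ≤ 2 ^ j := by
      rcases j with _ | j
      · exfalso
        exact hncyc (eQ.isCyclic.2 (isCyclic_of_prime_card (p := 2) (by
          rw [Nat.card_congr f.toEquiv, DihedralGroup.nat_card]; rfl)))
      · calc 2 = 2 ^ 1 := rfl
          _ ≤ _ := Nat.pow_le_pow_right two_pos (by omega)
    haveI : (Cfsg.pPrimeCore 2 N).Characteristic := inferInstance
    haveI hmn : ((Cfsg.pPrimeCore 2 N).map N.subtype).Normal := ConjAct.normal_of_characteristic_of_normal
    have hON : Cfsg.pPrimeCore 2 N = ⊥ := by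
      have h1 : (Cfsg.pPrimeCore 2 N).map N.subtype ≤ Cfsg.oddCore X := Grp.le_pPrimeCore hmn (by
        rw [card_map_of_injective N.subtype_injective]; exact Grp.pPrimeCore_coprime)
      rw [hO, le_bot_iff, map_eq_bot_iff_of_injective _ N.subtype_injective] at h1
      exact h1
    have hsimp : IsSimpleGroup N := isSimple_of_dihedral hp hON Q hj (eQ.trans f)
    have hna : ¬ IsMulCommutative N := fun hc => hN (by
      have := hc
      exact ⟨⟨1, by
        rw [derivedSeries_one, eq_bot_iff, _root_.commutator_def, commutator_le]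
        intro a _ b _
        rw [mem_bot, commutatorElement_eq_one_iff_mul_comm]
        exact hc.is_comm.comm a b⟩⟩)
    refine ⟨N, hNn, hsimp, hna, ?_, ?_⟩
    · -- the centralizer has odd order
      intro x hx
      set C := centralizer (N : Set X) with hC
      have hxC : x ∈ C := mem_centralizer_iff.2 fun y hy => (hx y hy).eq.symm
      suffices hCb : C = ⊥ by rw [hCb, mem_bot] at hxC; exact hxC
      rw [eq_bot_iff, ← hO]
      refine Grp.le_pPrimeCore inferInstance (Nat.coprime_two_right.2 (Nat.not_even_iff_odd.1 fun hev => ?_))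
      -- an involution of the centralizer would make the Sylow subgroup too big
      obtain ⟨c, hc, hc2⟩ := Invol.exists_orderOf_two_mem hev
      obtain ⟨P, hP⟩ := (Invol.isPGroup_zpowers (n := 1) (by rw [hc2, pow_one]) :
        IsPGroup 2 (zpowers c)).exists_le_sylow
      obtain ⟨g, hg⟩ := MulAction.exists_smul_eq X P S
      set c' := g * c * g⁻¹ with hc'
      have hc'S : c' ∈ (S : Subgroup X) := by rw [← hg]; exact ⟨c, hP (mem_zpowers c), rfl⟩
      have hc'C : c' ∈ C := (inferInstance : C.Normal).conj_mem c hc g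
      have hc'2 : orderOf c' = 2 := by rw [hc', Invol.orderOf_conj_eq, hc2]
      set g0 := eQ.trans f
      set k := 2 ^ (j - 1) with hk
      have hjk : 2 ^ j = k + k := by
        rw [hk, ← two_mul, ← pow_succ', Nat.sub_add_cancel (by
          by_contra h0
          rw [show j = 0 by omega] at hj
          omega)]
      have hk0 : 0 < k := by positivity
      haveI : NeZero (2 ^ j) := ⟨by positivity⟩
      -- two commuting involutions of the Sylow subgroup of `N`
      set w₁ : DihedralGroup (2 ^ j) := .sr 0 with hw₁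
      set w₂ : DihedralGroup (2 ^ j) := .r ((k : ℕ) : ZMod (2 ^ j)) with hw₂
      have hk2 : ((k : ℕ) : ZMod (2 ^ j)) + (k : ℕ) = 0 := by
        rw [← Nat.cast_add, ← hjk, ZMod.natCast_self]
      have hw₂o : orderOf w₂ = 2 := by
        refine orderOf_eq_prime (by rw [pow_two, hw₂, DihedralGroup.r_mul_r, hk2]; rfl) ?_
        rw [hw₂, DihedralGroup.one_def]
        intro h0
        have h2 := DihedralGroup.r.inj h0
        rw [ZMod.natCast_eq_zero_iff] at h2
        exact absurd (Nat.le_of_dvd hk0 h2) (by omega)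
      have hcommw : w₁ * w₂ = w₂ * w₁ := by
        rw [hw₁, hw₂, DihedralGroup.sr_mul_r, DihedralGroup.r_mul_sr, zero_add, zero_sub,
          neg_eq_of_add_eq_zero_left hk2]
      set d : DihedralGroup (2 ^ j) → ↥(S : Subgroup X) := fun w =>
        ⟨((g0.symm w : N) : X), (g0.symm w).2.1⟩ with hd
      have hdm : ∀ a b, d (a * b) = d a * d b := fun a b => Subtype.ext (by
        show ((g0.symm (a * b) : N) : X) = _
        rw [map_mul]; rfl)
      have hdinj : Function.Injective d := fun a b hab => g0.symm.injective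
        (Subtype.ext (Subtype.ext (congrArg (fun z : ↥(S : Subgroup X) => (z : X)) hab)))
      have hdo : ∀ w, orderOf (d w) = orderOf w := fun w => by
        rw [← orderOf_injective g0.symm.toMonoidHom g0.symm.injective w, ← Subgroup.orderOf_coe (d w)]
        show orderOf ((g0.symm w : N) : X) = orderOf (g0.symm w)
        rw [Subgroup.orderOf_coe, Subgroup.orderOf_coe]
      have hcd : ∀ w, e (d w) * e ⟨c', hc'S⟩ = e ⟨c', hc'S⟩ * e (d w) := fun w => by
        rw [← map_mul, ← map_mul]
        exact congrArg e (Subtype.ext (mem_centralizer_iff.1 hc'C _ ((g0.symm w : N)).2))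
      have hm0 : 2 ^ m = 2 ^ (m - 1) + 2 ^ (m - 1) := by
        rw [← two_mul, ← pow_succ', Nat.sub_add_cancel hm]
      have hrk := dihedral_rank_two hm0 (by positivity) (a := e (d w₁)) (b := e (d w₂))
        (c := e ⟨c', hc'S⟩)
        (by rw [MulEquiv.orderOf_eq, hdo, hw₁, DihedralGroup.orderOf_sr])
        (by rw [MulEquiv.orderOf_eq, hdo, hw₂o])
        (by rw [MulEquiv.orderOf_eq, Subgroup.orderOf_mk, hc'2])
        (by rw [← map_mul, ← map_mul, ← hdm, ← hdm, hcommw])
        (hcd w₁) (hcd w₂) fun h0 => absurd (hdinj (e.injective h0)) (by simp [hw₁, hw₂])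
      have hout : ∀ w, (⟨c', hc'S⟩ : ↥(S : Subgroup X)) ≠ d w := by
        intro w hw
        have h1 : c' = ((g0.symm w : N) : X) := congrArg Subtype.val hw
        refine hna ?_
        have hcen : (g0.symm w : N) ∈ Subgroup.center N := mem_center_iff.2 fun y => Subtype.ext (by
          show (y : X) * ((g0.symm w : N) : X) = ((g0.symm w : N) : X) * y
          rw [← h1]; exact mem_centralizer_iff.1 hc'C y y.2)
        rcases hsimp.eq_bot_or_eq_top_of_normal (Subgroup.center N) inferInstance with hb | ht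
        · rw [hb, mem_bot] at hcen
          rw [hcen, Subgroup.coe_one] at h1
          rw [h1, orderOf_one] at hc'2
          omega
        · exact ⟨⟨fun a b => mem_center_iff.1 (ht ▸ mem_top b) a⟩⟩
      rcases hrk with h0 | h0 | h0
      · exact hout w₁ (e.injective h0)
      · exact hout w₂ (e.injective h0)
      · rw [← map_mul, ← hdm] at h0
        exact hout _ (e.injective h0)
    · refine IH N Q (2 ^ j) hj ⟨eQ.trans f⟩ hna ?_
      exact lt_of_le_of_lt (Nat.card_le_card_of_injective _ N.subtype_injective) hB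

end Cfsg.Agent.Invol.GW.Induction
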